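import Cfsg.Agent.Lib.Classical.SLTwoThree.Model

/-! The irreducible representations of SL₂(3ᵏ) with trivial centre in characteristic three, and the
eigenspace dimensions of the split torus on an arbitrary one (Curtis). -/

set_option autoImplicit false

namespace Cfsg.Agent.Classical.SLTwoThree

open Module Matrix SLTwoFixed
open scoped MatrixGroups

universe u v w

section Elements

variable {F : Type u} [Field F]

/-- Upper unitriangular. -/
def up (t : F) : SL(2, F) := ⟨!![1, t; 0, 1], by simp [Matrix.det_fin_two_of]⟩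

/-- Lower unitriangular. -/
def lo (t : F) : SL(2, F) := ⟨!![1, 0; t, 1], by simp [Matrix.det_fin_two_of]⟩

/-- Diagonal. -/
def dg (a : Fˣ) : SL(2, F) := ⟨!![(a : F), 0; 0, (a : F)⁻¹], by simp [Matrix.det_fin_two_of]⟩

/-- The Weyl element. -/
def wel : SL(2, F) := ⟨!![0, 1; -1, 0], by simp [Matrix.det_fin_two_of]⟩

theorem up_add (s t : F) : up (s + t) = up s * up t := by
  apply Subtype.ext
  rw [Matrix.SpecialLinearGroup.coe_mul]
  ext i j; fin_cases i <;> fin_cases j <;>
    simp [up, Matrix.mul_apply, Fin.sum_univ_two, add_comm]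

theorem lo_add (s t : F) : lo (s + t) = lo s * lo t := by
  apply Subtype.ext
  rw [Matrix.SpecialLinearGroup.coe_mul]
  ext i j; fin_cases i <;> fin_cases j <;> simp [lo, Matrix.mul_apply, Fin.sum_univ_two]

/-- The upper unitriangular subgroup as a homomorphism. -/
def upHom : Multiplicative F →* SL(2, F) :=
  MonoidHom.mk' (fun t => up (Multiplicative.toAdd t)) fun s t => up_add _ _

/-- The lower unitriangular subgroup as a homomorphism. -/
def loHom : Multiplicative F →* SL(2, F) :=
  MonoidHom.mk' (fun t => lo (Multiplicative.toAdd t)) fun s t => lo_add _ _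

theorem dg_mul (a b : Fˣ) : dg (a * b) = dg a * dg b := by
  apply Subtype.ext
  rw [Matrix.SpecialLinearGroup.coe_mul]
  ext i j; fin_cases i <;> fin_cases j <;>
    simp [dg, Matrix.mul_apply, Fin.sum_univ_two, mul_inv, mul_comm]

/-- The torus as a homomorphism. -/
def dgHom : Fˣ →* SL(2, F) := MonoidHom.mk' dg dg_mul

theorem dg_neg_one : dg (-1 : Fˣ) = -1 := by
  apply Subtype.ext
  rw [Matrix.SpecialLinearGroup.coe_neg, Matrix.SpecialLinearGroup.coe_one]
  ext i j; fin_cases i <;> fin_cases j <;> simp [dg]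

theorem dg_up (a : Fˣ) (t : F) : dg a * up t = up ((a : F) ^ 2 * t) * dg a := by
  apply Subtype.ext
  rw [Matrix.SpecialLinearGroup.coe_mul, Matrix.SpecialLinearGroup.coe_mul]
  ext i j; fin_cases i <;> fin_cases j <;>
    simp [dg, up, Matrix.mul_apply, Fin.sum_univ_two] <;> field_simp

theorem dg_wel (a : Fˣ) : dg a * wel = wel * dg a⁻¹ := by
  apply Subtype.ext
  rw [Matrix.SpecialLinearGroup.coe_mul, Matrix.SpecialLinearGroup.coe_mul]
  ext i j; fin_cases i <;> fin_cases j <;> simp [dg, wel, Matrix.mul_apply, Fin.sum_univ_two]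

theorem wel_sq : (wel : SL(2, F)) * wel = -1 := by
  apply Subtype.ext
  rw [Matrix.SpecialLinearGroup.coe_mul, Matrix.SpecialLinearGroup.coe_neg,
    Matrix.SpecialLinearGroup.coe_one]
  ext i j; fin_cases i <;> fin_cases j <;> simp [wel, Matrix.mul_apply, Fin.sum_univ_two]

theorem wel_up_wel (t : Fˣ) :
    wel * up (t : F) * wel = -(up (-(t : F)⁻¹) * (wel * dg t) * up (-(t : F)⁻¹)) := by
  apply Subtype.ext
  rw [Matrix.SpecialLinearGroup.coe_mul, Matrix.SpecialLinearGroup.coe_mul,
    Matrix.SpecialLinearGroup.coe_neg, Matrix.SpecialLinearGroup.coe_mul,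
    Matrix.SpecialLinearGroup.coe_mul, Matrix.SpecialLinearGroup.coe_mul]
  ext i j; fin_cases i <;> fin_cases j <;>
    simp [up, dg, wel, Matrix.mul_apply, Fin.sum_univ_two] <;> field_simp <;> ring

/-- Lower times diagonal times upper, or the Weyl element times diagonal times upper. -/
theorem bruhat (g : SL(2, F)) :
    (∃ (s x : F) (a : Fˣ), g = lo s * (dg a * up x)) ∨
      (∃ (x : F) (a : Fˣ), g = wel * (dg a * up x)) := by
  have hd : g.1 0 0 * g.1 1 1 - g.1 0 1 * g.1 1 0 = 1 := by
    have := g.2; rwa [Matrix.det_fin_two] at this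
  by_cases h : g.1 0 0 = 0
  · right
    have h10 : g.1 1 0 ≠ 0 := fun e => by rw [h, e] at hd; simp at hd
    refine ⟨g.1 1 1 / g.1 1 0, Units.mk0 (-g.1 1 0) (neg_ne_zero.2 h10), Subtype.ext ?_⟩
    rw [Matrix.SpecialLinearGroup.coe_mul, Matrix.SpecialLinearGroup.coe_mul]
    ext i j; fin_cases i <;> fin_cases j <;>
      simp [up, dg, wel, Matrix.mul_apply, Fin.sum_univ_two, h] <;> field_simp
    · linear_combination g.1 1 1 * h - hd
  · left
    refine ⟨g.1 1 0 / g.1 0 0, g.1 0 1 / g.1 0 0, Units.mk0 _ h, Subtype.ext ?_⟩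
    rw [Matrix.SpecialLinearGroup.coe_mul, Matrix.SpecialLinearGroup.coe_mul]
    ext i j; fin_cases i <;> fin_cases j <;>
      simp [up, lo, dg, Matrix.mul_apply, Fin.sum_univ_two] <;> field_simp
    · linear_combination hd

end Elements

variable {F : Type u} [Field F] [Fintype F] {K : Type w} [Field K]

/-- The sum of the upper translates of the image under the Weyl element. -/
noncomputable def hecke {V : Type v} [AddCommGroup V] [Module K V] (ρ : SL(2, F) →* Module.End K V)
    (x : V) : V := ∑ t : F, ρ (up t) (ρ wel x)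

/-- A vector of weight `D` and Hecke eigenvalue `μ`. -/
structure Marked (ι : F →+* K) {V : Type v} [AddCommGroup V] [Module K V]
    (ρ : SL(2, F) →* Module.End K V) (x : V) (D : ℕ) (μ : K) : Prop where
  up_fix : ∀ t : F, ρ (up t) x = x
  torus : ∀ a : Fˣ, ρ (dg a) x = ι (a : F) ^ D • x
  hecke_eq : hecke ρ x = μ • x

theorem span_stable {ι : F →+* K} {V : Type v} [AddCommGroup V] [Module K V]
    {ρ : SL(2, F) →* Module.End K V} {x : V} {D : ℕ} {μ : K} (hx : Marked ι ρ x D μ) (g : SL(2, F)) :
    ρ g x ∈ Submodule.span K (Set.range fun s : F => ρ (lo s) x) := by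
  classical
  set S := Submodule.span K (Set.range fun s : F => ρ (lo s) x) with hS
  have hlo : ∀ s, ρ (lo s) x ∈ S := fun s => Submodule.subset_span ⟨s, rfl⟩
  have hb : ∀ (a : Fˣ) (y : F), ρ (dg a * up y) x = ι (a : F) ^ D • x := fun a y => by
    rw [map_mul, Module.End.mul_apply, hx.up_fix, hx.torus]
  have hl : ∀ (s y : F) (a : Fˣ), ρ (lo s * (dg a * up y)) x ∈ S := fun s y a => by
    rw [map_mul, Module.End.mul_apply, hb, map_smul]
    exact S.smul_mem _ (hlo s)
  have hx0 : x ∈ S := by
    have e : (lo 0 : SL(2, F)) = 1 := Subtype.ext (by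
      rw [Matrix.SpecialLinearGroup.coe_one]
      ext i j; fin_cases i <;> fin_cases j <;> simp [lo])
    have := hlo 0
    rwa [e, map_one, Module.End.one_apply] at this
  have hrest : ∀ t : F, t ≠ 0 → ρ (up t) (ρ wel x) ∈ S := fun t ht => by
    rw [← Module.End.mul_apply, ← map_mul]
    rcases bruhat (up t * wel) with ⟨s, y, a, e⟩ | ⟨y, a, e⟩
    · rw [e]; exact hl s y a
    · exfalso
      have := congrArg (fun A : SL(2, F) => A.1 0 0) e
      rw [Matrix.SpecialLinearGroup.coe_mul, Matrix.SpecialLinearGroup.coe_mul,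
        Matrix.SpecialLinearGroup.coe_mul] at this
      simp [up, dg, wel, Matrix.mul_apply, Fin.sum_univ_two] at this
      exact ht this
  have hw : ρ wel x ∈ S := by
    have h0 : ρ (up (0 : F)) (ρ wel x) = ρ wel x := by
      rw [show (up 0 : SL(2, F)) = 1 from Subtype.ext (by
        rw [Matrix.SpecialLinearGroup.coe_one]
        ext i j; fin_cases i <;> fin_cases j <;> simp [up]), map_one, Module.End.one_apply]
    have e := hx.hecke_eq
    rw [hecke, ← Finset.add_sum_erase _ _ (Finset.mem_univ (0 : F)), h0, ← eq_sub_iff_add_eq] at e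
    rw [e]
    exact S.sub_mem (S.smul_mem _ hx0) (S.sum_mem fun t ht => hrest t (Finset.ne_of_mem_erase ht))
  rcases bruhat g with ⟨s, y, a, e⟩ | ⟨y, a, e⟩
  · rw [e]; exact hl s y a
  · rw [e, map_mul, Module.End.mul_apply, hb, map_smul]
    exact S.smul_mem _ hw

/-- No proper invariant subspace. -/
def Simple {V : Type v} [AddCommGroup V] [Module K V] (ρ : SL(2, F) →* Module.End K V) : Prop :=
  ∀ U : Submodule K V, (∀ g, ∀ x ∈ U, ρ g x ∈ U) → U = ⊥ ∨ U = ⊤

theorem span_top {ι : F →+* K} {V : Type v} [AddCommGroup V] [Module K V]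
    {ρ : SL(2, F) →* Module.End K V} (hs : Simple ρ) {x : V} {D : ℕ} {μ : K}
    (hx : Marked ι ρ x D μ) (hx0 : x ≠ 0) :
    Submodule.span K (Set.range fun s : F => ρ (lo s) x) = ⊤ := by
  obtain ⟨S, hS⟩ : ∃ S, S = Submodule.span K (Set.range fun s : F => ρ (lo s) x) := ⟨_, rfl⟩
  rw [← hS]
  have hst : ∀ g, ∀ y ∈ S, ρ g y ∈ S := by
    intro g y hy
    rw [hS] at hy ⊢
    induction hy using Submodule.span_induction with
    | mem y hy =>
      obtain ⟨s, rfl⟩ := hy
      rw [← Module.End.mul_apply, ← map_mul]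
      exact span_stable hx _
    | zero => rw [map_zero]; exact zero_mem _
    | add a b _ _ iha ihb => rw [map_add]; exact add_mem iha ihb
    | smul r a _ ih => rw [map_smul]; exact Submodule.smul_mem _ r ih
  refine (hs S hst).resolve_left fun h => hx0 ?_
  have := span_stable hx (1 : SL(2, F))
  rwa [map_one, Module.End.one_apply, ← hS, h, Submodule.mem_bot] at this

variable [CharP K 3] [IsAlgClosed K] {k : ℕ}

theorem isPGroup_mult (hF : Fintype.card F = 3 ^ k) : IsPGroup 3 (Multiplicative F) :=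
  IsPGroup.of_card (n := k) (by
    rw [Nat.card_congr Multiplicative.toAdd, Nat.card_eq_fintype_card, hF])

/-- An invariant functional. -/
theorem exists_dual (hF : Fintype.card F = 3 ^ k) {V : Type v} [AddCommGroup V] [Module K V]
    [FiniteDimensional K V] [Nontrivial V] (ρ : SL(2, F) →* Module.End K V) :
    ∃ φ : Module.Dual K V, φ ≠ 0 ∧ ∀ (s : F) (x : V), φ (ρ (lo s) x) = φ x := by
  haveI : Fact (Nat.Prime 3) := ⟨Nat.prime_three⟩
  let σ : Multiplicative F →* Module.End K (Module.Dual K V) :=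
    { toFun := fun s => (ρ (loHom s⁻¹)).dualMap
      map_one' := by rw [inv_one, map_one, map_one]; rfl
      map_mul' := fun s t => by rw [_root_.mul_inv_rev, map_mul, map_mul]; rfl }
  obtain ⟨φ, hφ, hfix⟩ := exists_fixed_pGroup (p := 3) (isPGroup_mult hF) σ
  refine ⟨φ, hφ, fun s x => ?_⟩
  have := DFunLike.congr_fun (hfix (Multiplicative.ofAdd (-s))) x
  simpa [σ, loHom] using this

/-- An invariant functional is nonzero at a generator. -/
theorem dual_ne {W : Type*} [AddCommGroup W] [Module K W] (η : SL(2, F) →* Module.End K W)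
    (φ : Module.Dual K W) (w₀ : W) (hφ : φ ≠ 0) (hf : ∀ s z, φ (η (lo s) z) = φ z)
    (hspan : Submodule.span K (Set.range fun s : F => η (lo s) w₀) = ⊤) : φ w₀ ≠ 0 := by
  intro h0
  refine hφ (LinearMap.ext fun z => ?_)
  have hz : z ∈ Submodule.span K (Set.range fun s : F => η (lo s) w₀) := hspan ▸ Submodule.mem_top
  induction hz using Submodule.span_induction with
  | mem y hy => obtain ⟨s, rfl⟩ := hy; rw [hf, h0]; rfl
  | zero => simp
  | add a b _ _ iha ihb => rw [map_add, iha, ihb]; simp
  | smul r a _ ih => rw [map_smul, ih]; simp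

/-- Marks with equal weight and eigenvalue give isomorphic simple representations. -/
theorem exists_equiv (hF : Fintype.card F = 3 ^ k) {ι : F →+* K} {V : Type v} [AddCommGroup V]
    [Module K V] [FiniteDimensional K V] {ρ : SL(2, F) →* Module.End K V} (hV : Simple ρ) {x : V}
    {M : Type*} [AddCommGroup M] [Module K M] [FiniteDimensional K M]
    {τ : SL(2, F) →* Module.End K M} (hM : Simple τ) {m : M} {D : ℕ} {μ : K}
    (hx : Marked ι ρ x D μ) (hx0 : x ≠ 0) (hm : Marked ι τ m D μ) (hm0 : m ≠ 0) :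
    ∃ L : V ≃ₗ[K] M, ∀ g y, L (ρ g y) = τ g (L y) := by
  classical
  haveI : Nontrivial V := ⟨⟨x, 0, hx0⟩⟩
  haveI : Nontrivial M := ⟨⟨m, 0, hm0⟩⟩
  let σ : SL(2, F) →* Module.End K (V × M) :=
    { toFun := fun g => (ρ g).prodMap (τ g)
      map_one' := LinearMap.ext fun p => by simp
      map_mul' := fun g h => LinearMap.ext fun p => by simp }
  have hσ : ∀ g (p : V × M), σ g p = (ρ g p.1, τ g p.2) := fun g p => rfl
  have hp : Marked ι σ (x, m) D μ := by
    refine ⟨fun t => ?_, fun a => ?_, ?_⟩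
    · rw [hσ, hx.up_fix, hm.up_fix]
    · rw [hσ, hx.torus, hm.torus, Prod.smul_mk]
    · refine Prod.ext ?_ ?_
      · rw [hecke, Prod.fst_sum]; exact hx.hecke_eq
      · rw [hecke, Prod.snd_sum]; exact hm.hecke_eq
  obtain ⟨N, hN⟩ : ∃ N, N = Submodule.span K (Set.range fun s : F => σ (lo s) (x, m)) := ⟨_, rfl⟩
  have hst : ∀ g, ∀ y ∈ N, σ g y ∈ N := by
    intro g y hy
    rw [hN] at hy ⊢
    induction hy using Submodule.span_induction with
    | mem y hy =>
      obtain ⟨s, rfl⟩ := hy
      rw [← Module.End.mul_apply, ← map_mul]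
      exact span_stable hp _
    | zero => rw [map_zero]; exact zero_mem _
    | add a b _ _ iha ihb => rw [map_add]; exact add_mem iha ihb
    | smul r a _ ih => rw [map_smul]; exact Submodule.smul_mem _ r ih
  have key : ∀ y ∈ N, ∃ c : K,
      (∀ φ : Module.Dual K V, (∀ s z, φ (ρ (lo s) z) = φ z) → φ y.1 = c * φ x) ∧
      ∀ φ : Module.Dual K M, (∀ s z, φ (τ (lo s) z) = φ z) → φ y.2 = c * φ m := by
    intro y hy
    rw [hN] at hy
    induction hy using Submodule.span_induction with
    | mem y hy =>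
      obtain ⟨s, rfl⟩ := hy
      exact ⟨1, fun φ hφ => by rw [one_mul]; exact hφ s x,
        fun φ hφ => by rw [one_mul]; exact hφ s m⟩
    | zero => exact ⟨0, fun φ _ => by simp, fun φ _ => by simp⟩
    | add a b _ _ iha ihb =>
      obtain ⟨c, h1, h2⟩ := iha
      obtain ⟨c', h1', h2'⟩ := ihb
      exact ⟨c + c', fun φ hφ => by rw [Prod.fst_add, map_add, h1 φ hφ, h1' φ hφ, add_mul],
        fun φ hφ => by rw [Prod.snd_add, map_add, h2 φ hφ, h2' φ hφ, add_mul]⟩
    | smul r a _ ih =>
      obtain ⟨c, h1, h2⟩ := ih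
      exact ⟨r * c, fun φ hφ => by rw [Prod.smul_fst, map_smul, h1 φ hφ, smul_eq_mul, mul_assoc],
        fun φ hφ => by rw [Prod.smul_snd, map_smul, h2 φ hφ, smul_eq_mul, mul_assoc]⟩
  obtain ⟨φV, hφV, hfV⟩ := exists_dual hF ρ
  obtain ⟨φM, hφM, hfM⟩ := exists_dual hF τ
  have hxV := dual_ne ρ φV x hφV hfV (span_top hV hx hx0)
  have hmM := dual_ne τ φM m hφM hfM (span_top hM hm hm0)
  have hmem : (x, m) ∈ N := by
    have h1 := span_stable hp (1 : SL(2, F))
    rwa [map_one, Module.End.one_apply, ← hN] at h1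
  -- the two projections are injective
  have hinj2 : ∀ p ∈ N, p.2 = 0 → p = 0 := by
    intro p hpN hp0
    refine Prod.ext ?_ hp0
    by_contra hne
    have htop := (hV (N.comap (LinearMap.inl K V M)) fun g y hy => by
      have := hst g _ (Submodule.mem_comap.1 hy)
      rw [hσ] at this
      simpa using this).resolve_left fun h => hne (by
        have : p.1 ∈ N.comap (LinearMap.inl K V M) := by
          rw [Submodule.mem_comap, LinearMap.inl_apply, show (p.1, (0 : M)) = p from Prod.ext rfl hp0.symm]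
          exact hpN
        rwa [h, Submodule.mem_bot] at this)
    have hxN : (x, (0 : M)) ∈ N := by
      have : x ∈ N.comap (LinearMap.inl K V M) := htop ▸ Submodule.mem_top
      simpa using this
    obtain ⟨c, h1, h2⟩ := key _ hxN
    have e2 := h2 φM hfM
    have e1 := h1 φV hfV
    rw [map_zero, eq_comm, mul_eq_zero] at e2
    rw [e2.resolve_right hmM, zero_mul] at e1
    exact hxV e1
  have hinj1 : ∀ p ∈ N, p.1 = 0 → p = 0 := by
    intro p hpN hp0
    refine Prod.ext hp0 ?_
    by_contra hne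
    have htop := (hM (N.comap (LinearMap.inr K V M)) fun g y hy => by
      have := hst g _ (Submodule.mem_comap.1 hy)
      rw [hσ] at this
      simpa using this).resolve_left fun h => hne (by
        have : p.2 ∈ N.comap (LinearMap.inr K V M) := by
          rw [Submodule.mem_comap, LinearMap.inr_apply, show ((0 : V), p.2) = p from Prod.ext hp0.symm rfl]
          exact hpN
        rwa [h, Submodule.mem_bot] at this)
    have hmN : ((0 : V), m) ∈ N := by
      have : m ∈ N.comap (LinearMap.inr K V M) := htop ▸ Submodule.mem_top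
      simpa using this
    obtain ⟨c, h1, h2⟩ := key _ hmN
    have e1 := h1 φV hfV
    have e2 := h2 φM hfM
    rw [map_zero, eq_comm, mul_eq_zero] at e1
    rw [e1.resolve_right hxV, zero_mul] at e2
    exact hmM e2
  let P1 : N →ₗ[K] V := (LinearMap.fst K V M).comp N.subtype
  let P2 : N →ₗ[K] M := (LinearMap.snd K V M).comp N.subtype
  have hb1 : Function.Bijective P1 := by
    constructor
    · rw [← LinearMap.ker_eq_bot]
      exact LinearMap.ker_eq_bot'.2 fun p hp => Subtype.ext (hinj1 _ p.2 hp)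
    · rw [← LinearMap.range_eq_top, eq_top_iff, ← span_top hV hx hx0, Submodule.span_le]
      rintro _ ⟨s, rfl⟩
      exact ⟨⟨_, hst (lo s) _ hmem⟩, rfl⟩
  have hb2 : Function.Bijective P2 := by
    constructor
    · rw [← LinearMap.ker_eq_bot]
      exact LinearMap.ker_eq_bot'.2 fun p hp => Subtype.ext (hinj2 _ p.2 hp)
    · rw [← LinearMap.range_eq_top, eq_top_iff, ← span_top hM hm hm0, Submodule.span_le]
      rintro _ ⟨s, rfl⟩
      exact ⟨⟨_, hst (lo s) _ hmem⟩, rfl⟩
  refine ⟨(LinearEquiv.ofBijective P1 hb1).symm.trans (LinearEquiv.ofBijective P2 hb2), fun g y => ?_⟩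
  obtain ⟨p, rfl⟩ := hb1.2 y
  have e : (LinearEquiv.ofBijective P1 hb1).symm (ρ g (P1 p)) =
      ⟨_, hst g _ p.2⟩ := by
    rw [LinearEquiv.symm_apply_eq]; rfl
  rw [LinearEquiv.trans_apply, LinearEquiv.trans_apply, e]
  simp only [LinearEquiv.ofBijective_apply, LinearEquiv.ofBijective_symm_apply_apply]
  rfl

end Cfsg.Agent.Classical.SLTwoThree
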