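import Cfsg.Agent.Lib.Classical.SLTwoFixed.Defining
import Cfsg.Agent.Lib.Classical.SLTwoFixed.DefiningEigen
import Mathlib.FieldTheory.Finite.Basic

/-! The twisted tensor products of symmetric powers (degree at most two) of the natural module of
SL₂, in characteristic three. -/

set_option autoImplicit false

namespace Cfsg.Agent.Classical.SLTwoThree

open Module Matrix
open scoped MatrixGroups

universe u w

/-- The symmetric powers of degree at most two, as matrices. -/
def symMat {K : Type w} [CommRing K] :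
    (n : Fin 3) → Matrix (Fin 2) (Fin 2) K → Matrix (Fin ((n : ℕ) + 1)) (Fin ((n : ℕ) + 1)) K
  | ⟨0, _⟩, _ => 1
  | ⟨1, _⟩, g => g
  | ⟨2, _⟩, g => !![g 0 0 ^ 2, g 0 0 * g 0 1, g 0 1 ^ 2;
      2 * g 0 0 * g 1 0, g 0 0 * g 1 1 + g 0 1 * g 1 0, 2 * g 0 1 * g 1 1;
      g 1 0 ^ 2, g 1 0 * g 1 1, g 1 1 ^ 2]

section Sym

variable {K : Type w} [CommRing K]

theorem symMat_one : ∀ n : Fin 3, symMat n (1 : Matrix (Fin 2) (Fin 2) K) = 1
  | ⟨0, _⟩ => rfl
  | ⟨1, _⟩ => rfl
  | ⟨2, _⟩ => by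
    ext i j
    fin_cases i <;> fin_cases j <;> simp [symMat]

theorem symMat_mul : ∀ (n : Fin 3) (g h : Matrix (Fin 2) (Fin 2) K),
    symMat n (g * h) = symMat n g * symMat n h
  | ⟨0, _⟩, _, _ => (mul_one (1 : Matrix (Fin 1) (Fin 1) K)).symm
  | ⟨1, _⟩, _, _ => rfl
  | ⟨2, _⟩, g, h => by
    ext i j
    fin_cases i <;> fin_cases j <;>
      simp [symMat, Matrix.mul_apply, Fin.sum_univ_three, Fin.sum_univ_two] <;> ring

/-- A diagonal matrix gives a diagonal matrix. -/
theorem symMat_diag : ∀ (n : Fin 3) (x y : K) (a b : Fin ((n : ℕ) + 1)),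
    symMat n !![x, 0; 0, y] a b = if a = b then x ^ ((n : ℕ) - a) * y ^ (a : ℕ) else 0
  | ⟨0, _⟩, x, y, a, b => by fin_cases a; fin_cases b; simp [symMat]
  | ⟨1, _⟩, x, y, a, b => by fin_cases a <;> fin_cases b <;> simp [symMat]
  | ⟨2, _⟩, x, y, a, b => by fin_cases a <;> fin_cases b <;> simp [symMat] <;> ring

/-- The first row of an upper unitriangular element. -/
theorem symMat_upper : ∀ (n : Fin 3) (t : K) (b : Fin ((n : ℕ) + 1)),
    symMat n !![1, t; 0, 1] 0 b = t ^ (b : ℕ)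
  | ⟨0, _⟩, t, b => by fin_cases b; simp [symMat]; rfl
  | ⟨1, _⟩, t, b => by fin_cases b <;> simp [symMat]
  | ⟨2, _⟩, t, b => by fin_cases b <;> simp [symMat]

/-- The coefficient in the first column. -/
def symCoef {K : Type w} [CommRing K] (n : Fin 3) (a : ℕ) : K :=
  if (n : ℕ) = 2 ∧ a = 1 then 2 else 1

/-- The first column of a lower unitriangular element. -/
theorem symMat_lower : ∀ (n : Fin 3) (t : K) (a : Fin ((n : ℕ) + 1)),
    symMat n !![1, 0; t, 1] a 0 = symCoef n a * t ^ (a : ℕ)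
  | ⟨0, _⟩, t, a => by fin_cases a; simp [symMat, symCoef]; rfl
  | ⟨1, _⟩, t, a => by fin_cases a <;> simp [symMat, symCoef]
  | ⟨2, _⟩, t, a => by fin_cases a <;> simp [symMat, symCoef]

/-- An upper triangular matrix keeps the first basis vector. -/
theorem symMat_col : ∀ (n : Fin 3) (x y z : K) (a : Fin ((n : ℕ) + 1)),
    symMat n !![x, y; 0, z] a 0 = if a = 0 then x ^ (n : ℕ) else 0
  | ⟨0, _⟩, x, y, z, a => by fin_cases a; simp [symMat]; rfl
  | ⟨1, _⟩, x, y, z, a => by fin_cases a <;> simp [symMat]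
  | ⟨2, _⟩, x, y, z, a => by fin_cases a <;> simp [symMat, Fin.ext_iff]

theorem symMat_corner : ∀ (n : Fin 3) (g : Matrix (Fin 2) (Fin 2) K),
    symMat n g 0 0 = g 0 0 ^ (n : ℕ)
  | ⟨0, _⟩, g => by simp [symMat]
  | ⟨1, _⟩, g => by simp [symMat]
  | ⟨2, _⟩, g => by simp [symMat]

end Sym

variable {K : Type w} [Field K] [CharP K 3] {k : ℕ}

/-- The index set of a tensor product. -/
abbrev Idx (d : Fin k → Fin 3) : Type := ∀ i, Fin ((d i : ℕ) + 1)

/-- The value of a digit string in base three. -/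
def num (a : Fin k → ℕ) : ℕ := ∑ i, a i * 3 ^ (i : ℕ)

/-- Twice the index deducted from the highest weight. -/
def wt (d : Fin k → Fin 3) (a : Idx d) : ℤ := ∑ i : Fin k, (3 : ℤ) ^ (i : ℕ) * (((d i : ℕ) : ℤ) - 2 * ((a i : ℕ) : ℤ))

/-- The twisted tensor product. -/
noncomputable def model (d : Fin k → Fin 3) : Matrix (Fin 2) (Fin 2) K →* Matrix (Idx d) (Idx d) K where
  toFun g := Matrix.of fun a b => ∏ i, symMat (d i) (g.map (iterateFrobenius K 3 i)) (a i) (b i)
  map_one' := by
    ext a b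
    simp only [Matrix.of_apply, Matrix.map_one _ (map_zero _) (map_one _), symMat_one,
      Matrix.one_apply]
    by_cases h : a = b
    · simp [h]
    · rw [if_neg h]
      obtain ⟨i, hi⟩ := Function.ne_iff.1 h
      exact Finset.prod_eq_zero (Finset.mem_univ i) (if_neg hi)
  map_mul' g h := by
    ext a b
    simp only [Matrix.of_apply, Matrix.map_mul, symMat_mul, Matrix.mul_apply, ← Finset.prod_mul_distrib]
    rw [Fintype.prod_sum]

theorem model_apply (d : Fin k → Fin 3) (g : Matrix (Fin 2) (Fin 2) K) (a b : Idx d) :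
    model d g a b = ∏ i, symMat (d i) (g.map (iterateFrobenius K 3 i)) (a i) (b i) := rfl

theorem num_lt {a : Fin k → ℕ} (h : ∀ i, a i < 3) : num a < 3 ^ k := by
  have := (finFunctionFinEquiv (fun i => (⟨a i, h i⟩ : Fin 3))).isLt
  rwa [finFunctionFinEquiv_apply] at this

theorem num_inj {a b : Fin k → ℕ} (ha : ∀ i, a i < 3) (hb : ∀ i, b i < 3) (h : num a = num b) :
    a = b := by
  have e : finFunctionFinEquiv (fun i => (⟨a i, ha i⟩ : Fin 3)) =
      finFunctionFinEquiv (fun i => (⟨b i, hb i⟩ : Fin 3)) := by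
    rw [Fin.ext_iff, finFunctionFinEquiv_apply, finFunctionFinEquiv_apply]; exact h
  funext i
  exact congrArg (fun f : Fin k → Fin 3 => (f i : ℕ)) (finFunctionFinEquiv.injective e)

theorem idx_lt {d : Fin k → Fin 3} (a : Idx d) (i : Fin k) : (a i : ℕ) < 3 :=
  lt_of_lt_of_le (a i).2 (d i).2

theorem model_diag (d : Fin k → Fin 3) (x : K) (hx : x ≠ 0) (a b : Idx d) :
    model d !![x, 0; 0, x⁻¹] a b = if a = b then x ^ wt d a else 0 := by
  rw [model_apply]
  have hm : ∀ i : Fin k, (!![x, 0; 0, x⁻¹]).map (iterateFrobenius K 3 i) =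
      !![x ^ 3 ^ (i : ℕ), 0; 0, (x ^ 3 ^ (i : ℕ))⁻¹] := fun i => by
    ext r s; fin_cases r <;> fin_cases s <;> simp [iterateFrobenius_def]
  simp only [hm, symMat_diag]
  by_cases h : a = b
  · subst h
    rw [if_pos rfl, wt]
    have hp : ∀ S : Finset (Fin k), x ^ (∑ i ∈ S, (3 : ℤ) ^ (i : ℕ) * ((d i : ℤ) - 2 * (a i : ℤ))) =
        ∏ i ∈ S, x ^ ((3 : ℤ) ^ (i : ℕ) * ((d i : ℤ) - 2 * (a i : ℤ))) := by
      intro S
      induction S using Finset.induction_on with
      | empty => simp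
      | insert i S hi ih => rw [Finset.sum_insert hi, Finset.prod_insert hi, zpow_add₀ hx, ih]
    rw [hp]
    refine Finset.prod_congr rfl fun i _ => ?_
    rw [if_pos rfl, show (3 : ℤ) ^ (i : ℕ) = ((3 ^ (i : ℕ) : ℕ) : ℤ) by push_cast; rfl, _root_.zpow_mul,
      zpow_natCast, inv_pow, ← div_eq_mul_inv, ← zpow_natCast _ ((d i : ℕ) - a i),
      ← zpow_natCast _ (a i : ℕ), ← zpow_sub₀ (pow_ne_zero _ hx)]
    congr 1
    have := (a i).isLt
    omega
  · rw [if_neg h]
    obtain ⟨i, hi⟩ := Function.ne_iff.1 h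
    exact Finset.prod_eq_zero (Finset.mem_univ i) (if_neg hi)

variable {F : Type u} [Field F] [Fintype F] (ι : F →+* K)

/-- The representation of SL₂(F). -/
noncomputable def modelRep (d : Fin k → Fin 3) :
    SL(2, F) →* Module.End K (Idx d → K) where
  toFun g := Matrix.toLinAlgEquiv' (model d (g.1.map ι))
  map_one' := by
    rw [Matrix.SpecialLinearGroup.coe_one, Matrix.map_one _ (map_zero _) (map_one _), map_one, map_one]
  map_mul' g h := by rw [Matrix.SpecialLinearGroup.coe_mul, Matrix.map_mul, map_mul, map_mul]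

theorem modelRep_apply (d : Fin k → Fin 3) (g : SL(2, F)) (v : Idx d → K) (a : Idx d) :
    modelRep ι d g v a = ∑ b, model d (g.1.map ι) a b * v b := rfl

/-- The highest weight vector. -/
def top (d : Fin k → Fin 3) : Idx d → K := Pi.single 0 1

theorem modelRep_top (d : Fin k → Fin 3) (g : SL(2, F)) (a : Idx d) :
    modelRep ι d g (top d) a = model d (g.1.map ι) a 0 := by
  rw [modelRep_apply, Finset.sum_eq_single 0]
  · simp [top]
  · intro b _ hb; simp [top, Pi.single_eq_of_ne hb]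
  · simp

include ι

theorem two_ne : (2 : K) ≠ 0 := by
  intro h
  have := (CharP.cast_eq_zero_iff K 3 2).1 (by exact_mod_cast h)
  norm_num at this

variable (hF : Fintype.card F = 3 ^ k)
include hF

/-- Coefficients of distinct exponents below `q` vanishing on the subfield vanish. -/
theorem coeff_zero {A : Type*} [Fintype A] (E : A → ℕ) (hE : Function.Injective E)
    (hlt : ∀ a, E a < 3 ^ k) (f : A → K) (h : ∀ t : F, ∑ a, f a * ι t ^ E a = 0) : f = 0 := by
  classical
  obtain ⟨P, hP⟩ : ∃ P : Polynomial K, P = ∑ a, Polynomial.C (f a) * Polynomial.X ^ E a := ⟨_, rfl⟩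
  have hdeg : P.degree < ((Finset.univ.image ι).card : ℕ) := by
    rw [Finset.card_image_of_injective _ ι.injective, Finset.card_univ, hF, hP]
    refine (Polynomial.degree_sum_le _ _).trans_lt ?_
    rw [Finset.sup_lt_iff (WithBot.bot_lt_coe _)]
    exact fun a _ => (Polynomial.degree_C_mul_X_pow_le _ _).trans_lt (WithBot.coe_lt_coe.2 (hlt a))
  have h0 : P = 0 := Polynomial.eq_zero_of_degree_lt_of_eval_finset_eq_zero _ hdeg fun x hx => by
    obtain ⟨t, -, rfl⟩ := Finset.mem_image.1 hx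
    simp [hP, Polynomial.eval_finset_sum, h t]
  funext a
  have := congrArg (fun Q : Polynomial K => Q.coeff (E a)) h0
  simpa [hP, Polynomial.finset_sum_coeff, Polynomial.coeff_C_mul_X_pow, hE.eq_iff] using this

end Cfsg.Agent.Classical.SLTwoThree
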