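import Cfsg.Agent.Lib.Classical.SLTwoThree.Classify

/-! The eigenspace dimensions of the split torus in representations of SL₂(3ᵏ) with trivial centre,
in characteristic three, are sums of those of twisted tensor products. -/

set_option autoImplicit false
set_option maxHeartbeats 1000000

namespace Cfsg.Agent.Classical.SLTwoThree

open Module Matrix SLTwoFixed
open scoped MatrixGroups Classical

universe u v w

variable {F : Type u} [Field F] [Fintype F] [DecidableEq F] {K : Type w} [Field K] [CharP K 3]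
  [IsAlgClosed K]
  {k : ℕ}

theorem card_cast (hF : Fintype.card F = 3 ^ k) (hk : 0 < k) : ((Fintype.card F : ℕ) : K) = 0 := by
  rw [CharP.cast_eq_zero_iff K 3, hF]; exact dvd_pow_self 3 hk.ne'

theorem sum_units_pow (ι : F →+* K) (D : ℕ) :
    ∑ t : Fˣ, ι (t : F) ^ D = if Fintype.card F - 1 ∣ D then -1 else 0 := by
  classical
  have h : ∑ t : Fˣ, ι (t : F) ^ D = ι (∑ t : Fˣ, ((t : F) ^ D)) := by
    rw [map_sum]; simp only [map_pow]
  rw [h, FiniteField.sum_pow_units]
  split_ifs <;> simp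

/-- A marked vector exists. -/
theorem exists_marked (hF : Fintype.card F = 3 ^ k) (hk : 0 < k) (ι : F →+* K) {V : Type v}
    [AddCommGroup V] [Module K V] [FiniteDimensional K V] [Nontrivial V]
    (ρ : SL(2, F) →* Module.End K V) (hneg : ρ (-1) = 1) :
    ∃ (x : V) (D : ℕ) (μ : K), x ≠ 0 ∧ Marked ι ρ x D μ ∧ D < 3 ^ k - 1 ∧ 2 ∣ D ∧
      (μ = 0 ∨ μ = -1 ∧ D = 0) := by
  classical
  haveI : Fact (Nat.Prime 3) := ⟨Nat.prime_three⟩
  obtain ⟨W, hW⟩ : ∃ W : Submodule K V, W = ⨅ t : F, LinearMap.ker (ρ (up t) - 1) := ⟨_, rfl⟩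
  have hmem : ∀ x, x ∈ W ↔ ∀ t, ρ (up t) x = x := fun x => by
    simp [hW, sub_eq_zero]
  obtain ⟨x₀, hx₀, hfix⟩ := exists_fixed_pGroup (K := K) (p := 3) (isPGroup_mult hF) (ρ.comp upHom)
  haveI : Nontrivial W := ⟨⟨x₀, (hmem _).2 fun t => hfix (Multiplicative.ofAdd t)⟩, 0,
    fun e => hx₀ (congrArg Subtype.val e)⟩
  obtain ⟨g, hg⟩ := IsCyclic.exists_ofOrder_eq_natCard (α := Fˣ)
  have hgmem : ∀ a : Fˣ, ∃ n : ℕ, a = g ^ n := fun a => by
    have htop : Subgroup.zpowers g = ⊤ :=
      Subgroup.eq_top_of_card_eq _ (by rw [Nat.card_zpowers, hg])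
    have : a ∈ Submonoid.powers g := by
      rw [mem_powers_iff_mem_zpowers, htop]; exact Subgroup.mem_top a
    obtain ⟨n, hn⟩ := this
    exact ⟨n, hn.symm⟩
  have hinv : ∀ x ∈ W, ρ (dg g) x ∈ W := fun x hx => (hmem _).2 fun t => by
    have e : (up t : SL(2, F)) * dg g = dg g * up (((g : F) ^ 2)⁻¹ * t) := by
      rw [dg_up]; congr 2; field_simp
    rw [← Module.End.mul_apply, ← map_mul, e, map_mul, Module.End.mul_apply, (hmem x).1 hx]
  obtain ⟨c, hc⟩ := Module.End.exists_eigenvalue ((ρ (dg g)).restrict hinv)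
  obtain ⟨y, hy⟩ := hc.exists_hasEigenvector
  have hy' : ρ (dg g) (y : V) = c • (y : V) := congrArg Subtype.val hy.apply_eq_smul
  have hy0 : (y : V) ≠ 0 := fun e => hy.2 (Subtype.ext e)
  have hord : orderOf g = 3 ^ k - 1 := by rw [hg, Nat.card_units, Nat.card_eq_fintype_card, hF]
  have hpow : ∀ n : ℕ, ρ (dg (g ^ n)) (y : V) = c ^ n • (y : V) := by
    intro n
    induction n with
    | zero => simp [show (dg (1 : Fˣ) : SL(2, F)) = 1 from map_one dgHom]
    | succ n ih =>
      rw [pow_succ, dg_mul, map_mul, Module.End.mul_apply, hy', map_smul, ih, smul_smul, pow_succ']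
  haveI : NeZero (3 ^ k - 1) := ⟨by
    have : 3 ≤ 3 ^ k := Nat.le_self_pow hk.ne' 3
    omega⟩
  have hc1 : c ^ (3 ^ k - 1) = 1 := by
    have h := hpow (3 ^ k - 1)
    rw [← hord, pow_orderOf_eq_one, show (dg (1 : Fˣ) : SL(2, F)) = 1 from map_one dgHom, map_one,
      Module.End.one_apply, hord] at h
    by_contra hne
    exact hy0 ((smul_eq_zero.1 (show (c ^ (3 ^ k - 1) - 1) • (y : V) = 0 by
      rw [sub_smul, one_smul, ← h, sub_self])).resolve_left (sub_ne_zero.2 hne))
  have hprim : IsPrimitiveRoot (ι (g : F)) (3 ^ k - 1) := by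
    have h0 : IsPrimitiveRoot g (3 ^ k - 1) := hord ▸ IsPrimitiveRoot.orderOf g
    exact (IsPrimitiveRoot.coe_units_iff.2 h0).map_of_injective ι.injective
  obtain ⟨D, hD, hDc⟩ := hprim.eq_pow_of_pow_eq_one hc1
  have hup : ∀ t, ρ (up t) (y : V) = y := (hmem _).1 y.2
  have htor : ∀ a : Fˣ, ρ (dg a) (y : V) = ι (a : F) ^ D • (y : V) := fun a => by
    obtain ⟨n, rfl⟩ := hgmem a
    rw [hpow, ← hDc, Units.val_pow_eq_pow_val, map_pow, ← pow_mul, ← pow_mul, mul_comm]
  have heven : 2 ∣ D := by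
    have h := htor (-1)
    rw [dg_neg_one, hneg, Module.End.one_apply, Units.val_neg, Units.val_one, map_neg, map_one] at h
    by_contra hodd
    rw [Odd.neg_one_pow (Nat.not_even_iff_odd.1 fun he => hodd he.two_dvd), neg_one_smul,
      eq_neg_iff_add_eq_zero, ← two_smul K, smul_eq_zero] at h
    exact hy0 (h.resolve_left (two_ne ι))
  -- the Hecke operator
  have hXup : ∀ z : V, ∀ s, ρ (up s) (hecke ρ z) = hecke ρ z := fun z s => by
    rw [hecke, map_sum]
    exact Fintype.sum_equiv (Equiv.addLeft s) _ _ fun t => by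
      rw [← Module.End.mul_apply, ← map_mul, ← up_add]; rfl
  have hXtor : ∀ a : Fˣ, ρ (dg a) (hecke ρ (y : V)) = (ι (a : F) ^ D)⁻¹ • hecke ρ (y : V) := fun a => by
    rw [hecke, map_sum, Finset.smul_sum]
    refine Fintype.sum_equiv (Equiv.mulLeft₀ ((a : F) ^ 2) (pow_ne_zero _ a.ne_zero)) _ _ fun t => ?_
    rw [← Module.End.mul_apply, ← map_mul, dg_up, map_mul, Module.End.mul_apply,
      ← Module.End.mul_apply (ρ (dg a)), ← map_mul, dg_wel, map_mul, Module.End.mul_apply, htor,
      map_smul, map_smul, Units.val_inv_eq_inv_val, map_inv₀, inv_pow]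
    rfl
  obtain ⟨c0, hc0⟩ : ∃ c0 : K, c0 = if D = 0 then -1 else 0 := ⟨_, rfl⟩
  have hsq : hecke ρ (hecke ρ (y : V)) = c0 • hecke ρ (y : V) := by
    have hstep : ρ wel (hecke ρ (y : V)) = (y : V) +
        ∑ t : Fˣ, ι (t : F) ^ D • ρ (up (-(t : F)⁻¹)) (ρ wel (y : V)) := by
      rw [hecke, map_sum, ← Finset.add_sum_erase _ _ (Finset.mem_univ (0 : F))]
      congr 1
      · rw [show (up 0 : SL(2, F)) = 1 from Subtype.ext (by
          rw [Matrix.SpecialLinearGroup.coe_one]
          ext i j; fin_cases i <;> fin_cases j <;> simp [up]), map_one, Module.End.one_apply,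
          ← Module.End.mul_apply, ← map_mul, wel_sq, hneg, Module.End.one_apply]
      · refine Finset.sum_bij' (fun t ht => Units.mk0 t (Finset.ne_of_mem_erase ht))
          (fun t _ => (t : F)) (fun _ _ => Finset.mem_univ _)
          (fun t _ => Finset.mem_erase.2 ⟨t.ne_zero, Finset.mem_univ _⟩)
          (fun _ _ => rfl) (fun _ _ => Units.ext rfl) fun t ht => ?_
        obtain ⟨u, rfl⟩ : ∃ u : Fˣ, (u : F) = t := ⟨Units.mk0 t (Finset.ne_of_mem_erase ht), rfl⟩
        rw [← Module.End.mul_apply, ← map_mul, ← Module.End.mul_apply, ← map_mul, wel_up_wel,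
          ← neg_one_mul, map_mul, hneg, one_mul, map_mul, map_mul, map_mul, Module.End.mul_apply,
          Module.End.mul_apply, Module.End.mul_apply, hup, htor, map_smul, map_smul]
        rfl
    rw [hecke]
    simp only [hstep, map_add, map_sum, map_smul, hup]
    rw [Finset.sum_add_distrib, Finset.sum_const, Finset.card_univ, ← Nat.cast_smul_eq_nsmul K,
      card_cast hF hk, zero_smul, zero_add, Finset.sum_comm]
    have : ∀ t : Fˣ, ∑ s : F, ι (t : F) ^ D • ρ (up s) (ρ (up (-(t : F)⁻¹)) (ρ wel (y : V))) =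
        ι (t : F) ^ D • hecke ρ (y : V) := fun t => by
      rw [← Finset.smul_sum]
      congr 1
      exact Fintype.sum_equiv (Equiv.addRight (-(t : F)⁻¹)) _ _ fun s => by
        rw [← Module.End.mul_apply, ← map_mul, ← up_add]; rfl
    rw [Finset.sum_congr rfl fun t _ => this t, ← Finset.sum_smul, sum_units_pow, hF, hc0]
    congr 1
    rcases Nat.eq_zero_or_pos D with h | h
    · subst h; simp
    · rw [if_neg h.ne', if_neg fun hd => absurd (Nat.le_of_dvd h hd) (by omega)]
  by_cases hX : hecke ρ (y : V) = 0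
  · exact ⟨y, D, 0, hy0, ⟨hup, htor, by rw [hX, zero_smul]⟩, hD, heven, Or.inl rfl⟩
  by_cases hD0 : D = 0
  · subst hD0
    refine ⟨hecke ρ (y : V), 0, -1, hX, ⟨hXup _, fun a => ?_, ?_⟩, hD, heven, Or.inr ⟨rfl, rfl⟩⟩
    · rw [hXtor, pow_zero, inv_one]
    · rw [hsq, hc0, if_pos rfl]
  · refine ⟨hecke ρ (y : V), 3 ^ k - 1 - D, 0, hX, ⟨hXup _, fun a => ?_, ?_⟩, by omega, ?_,
      Or.inl rfl⟩
    · rw [hXtor]
      congr 1
      refine eq_comm.1 (eq_inv_of_mul_eq_one_left ?_)
      rw [← pow_add, Nat.sub_add_cancel (by omega), ← map_pow, ← hF, FiniteField.pow_card_sub_one_eq_one _ a.ne_zero, map_one]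
    · rw [hsq, hc0, if_neg hD0]
    · have : Odd (3 ^ k) := Odd.pow (by decide)
      obtain ⟨m, hm⟩ := this
      omega

theorem up_map (ι : F →+* K) (t : F) (i : Fin k) :
    ((up t).1.map ι).map (iterateFrobenius K 3 i) = !![1, ι t ^ 3 ^ (i : ℕ); 0, 1] := by
  ext r s; fin_cases r <;> fin_cases s <;> simp [up, iterateFrobenius_def]

theorem lo_map (ι : F →+* K) (t : F) (i : Fin k) :
    ((lo t).1.map ι).map (iterateFrobenius K 3 i) = !![1, 0; ι t ^ 3 ^ (i : ℕ), 1] := by
  ext r s; fin_cases r <;> fin_cases s <;> simp [lo, iterateFrobenius_def]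

theorem num_eq_pow {x : K} (a : Fin k → ℕ) :
    ∏ i : Fin k, (x ^ 3 ^ (i : ℕ)) ^ a i = x ^ num a := by
  rw [num, ← Finset.prod_pow_eq_pow_sum]
  exact Finset.prod_congr rfl fun i _ => by rw [← pow_mul, mul_comm]

theorem zero_num (d : Fin k → Fin 3) : num (fun i => (((0 : Idx d) i : ℕ))) = 0 := by simp [num]

theorem num_idx_injective (d : Fin k → Fin 3) :
    Function.Injective fun a : Idx d => num fun i => (a i : ℕ) := fun a b h =>
  funext fun i => Fin.ext (congrFun (num_inj (idx_lt a) (idx_lt b) h) i)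

/-- The model is simple, and the fixed vectors of the upper unitriangular group form a line. -/
theorem model_line (hF : Fintype.card F = 3 ^ k) (ι : F →+* K) (d : Fin k → Fin 3)
    (x : Idx d → K) (hx : ∀ t, modelRep ι d (up t) x = x) : x = x 0 • top d := by
  classical
  have h : ∀ t : F, ∑ a : Idx d, (x a - if a = 0 then x 0 else 0) * ι t ^ num (fun i => (a i : ℕ)) = 0 := by
    intro t
    have e := congrFun (hx t) 0
    rw [modelRep_apply] at e
    simp only [model_apply, up_map, Pi.zero_apply, symMat_upper, num_eq_pow] at e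
    simp only [sub_mul, Finset.sum_sub_distrib, ite_mul, zero_mul, Finset.sum_ite_eq',
      Finset.mem_univ, if_true, zero_num, pow_zero, mul_one, sub_eq_zero]
    rw [← e]
    exact Finset.sum_congr rfl fun a _ => mul_comm _ _
  have h0 := coeff_zero ι hF _ (num_idx_injective d) (fun a => num_lt (idx_lt a)) _ h
  funext a
  have := congrFun h0 a
  rw [Pi.zero_apply, sub_eq_zero] at this
  rw [this]
  by_cases ha : a = 0
  · subst ha; simp [top]
  · simp [top, ha, Pi.single_eq_of_ne ha]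

theorem model_simple (hF : Fintype.card F = 3 ^ k) (ι : F →+* K) (d : Fin k → Fin 3) :
    Simple (modelRep ι d) := by
  classical
  haveI : Fact (Nat.Prime 3) := ⟨Nat.prime_three⟩
  intro U hU
  by_cases hU0 : U = ⊥
  · exact Or.inl hU0
  refine Or.inr ?_
  haveI : Nontrivial U := (Submodule.nontrivial_iff_ne_bot).2 hU0
  obtain ⟨x, hx, hfix⟩ := exists_fixed_pGroup (K := K) (p := 3) (isPGroup_mult hF)
    ((subRep (modelRep ι d) U hU).comp upHom)
  have hline := model_line hF ι d (x : Idx d → K) fun t =>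
    congrArg Subtype.val (hfix (Multiplicative.ofAdd t))
  have htop : top d ∈ U := by
    have hne : (x : Idx d → K) 0 ≠ 0 := fun e => hx (Subtype.ext (by rw [hline, e, zero_smul]; rfl))
    have := U.smul_mem ((x : Idx d → K) 0)⁻¹ x.2
    rwa [hline, smul_smul, Pi.smul_apply, smul_eq_mul, top, Pi.single_eq_same, mul_one,
      inv_mul_cancel₀ hne, one_smul] at this
  by_contra hne
  obtain ⟨φ, hφ, hφU⟩ := Submodule.exists_dual_map_eq_bot_of_lt_top (lt_top_iff_ne_top.2 hne) inferInstance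
  have hv : ∀ z ∈ U, φ z = 0 := fun z hz => by
    have : φ z ∈ U.map φ := ⟨z, hz, rfl⟩
    rwa [hφU, Submodule.mem_bot] at this
  have hsum : ∀ z : Idx d → K, φ z = ∑ a, z a * φ (Pi.single a 1) := fun z => by
    conv_lhs => rw [pi_eq_sum_univ' z, map_sum]
    simp only [map_smul, smul_eq_mul]
  have h : ∀ t : F, ∑ a : Idx d,
      ((∏ i, symCoef (d i) (a i : ℕ)) * φ (Pi.single a 1)) * ι t ^ num (fun i => (a i : ℕ)) = 0 := by
    intro t
    have e := hv _ (hU (lo t) _ htop)
    rw [hsum] at e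
    simp only [modelRep_top, model_apply, lo_map, Pi.zero_apply, symMat_lower,
      Finset.prod_mul_distrib, num_eq_pow] at e
    rw [← e]
    exact Finset.sum_congr rfl fun a _ => by ring
  have h0 := coeff_zero ι hF _ (num_idx_injective d) (fun a => num_lt (idx_lt a)) _ h
  refine hφ (LinearMap.ext fun z => ?_)
  rw [hsum, LinearMap.zero_apply]
  refine Finset.sum_eq_zero fun a _ => ?_
  have := congrFun h0 a
  rw [Pi.zero_apply, mul_eq_zero] at this
  rcases this with h1 | h1
  · exfalso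
    obtain ⟨i, -, hi⟩ := Finset.prod_eq_zero_iff.1 h1
    rw [symCoef] at hi
    split_ifs at hi
    · exact two_ne ι hi
    · exact one_ne_zero hi
  · rw [h1, mul_zero]

theorem model_marked (hF : Fintype.card F = 3 ^ k) (hk : 0 < k) (ι : F →+* K) (d : Fin k → Fin 3) :
    Marked ι (modelRep ι d) (top d) (num fun i => (d i : ℕ))
      (if 2 ∣ num (fun i => (d i : ℕ)) ∧ num (fun i => (d i : ℕ)) = 3 ^ k - 1 then -1 else
        if 2 ∣ num (fun i => (d i : ℕ)) then 0 else
          ∑ t : F, ι (-t) ^ num fun i => (d i : ℕ)) := by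
  classical
  have hcol : ∀ (a : Fˣ) (y : F) (b : Idx d), modelRep ι d (dg a * up y) (top d) b =
      if b = 0 then ι (a : F) ^ num (fun i => (d i : ℕ)) else 0 := by
    intro a y b
    rw [modelRep_top, model_apply]
    have hm : ∀ i : Fin k, (((dg a * up y : SL(2, F))).1.map ι).map (iterateFrobenius K 3 i) =
        !![ι (a : F) ^ 3 ^ (i : ℕ), (ι (a : F) * ι y) ^ 3 ^ (i : ℕ); 0, (ι (a : F))⁻¹ ^ 3 ^ (i : ℕ)] := fun i => by
      rw [Matrix.SpecialLinearGroup.coe_mul]
      ext r s; fin_cases r <;> fin_cases s <;>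
        simp [dg, up, iterateFrobenius_def, Matrix.mul_apply, Fin.sum_univ_two]
    simp only [hm, Pi.zero_apply, symMat_col]
    by_cases hb : b = 0
    · subst hb; simp [num_eq_pow]
    · rw [if_neg hb]
      obtain ⟨i, hi⟩ := Function.ne_iff.1 hb
      exact Finset.prod_eq_zero (Finset.mem_univ i) (if_neg hi)
  have hup : ∀ t : F, modelRep ι d (up t) (top d) = top d := fun t => by
    funext b
    have := hcol 1 t b
    rw [show (dg (1 : Fˣ) : SL(2, F)) = 1 from map_one dgHom, one_mul] at this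
    rw [this, Units.val_one, map_one, one_pow, top]
    by_cases hb : b = 0
    · subst hb; simp
    · rw [if_neg hb, Pi.single_eq_of_ne hb]
  have htor : ∀ a : Fˣ, modelRep ι d (dg a) (top d) = ι (a : F) ^ num (fun i => (d i : ℕ)) • top d :=
    fun a => by
    funext b
    have := hcol a 0 b
    rw [show (up 0 : SL(2, F)) = 1 from Subtype.ext (by
      rw [Matrix.SpecialLinearGroup.coe_one]
      ext i j; fin_cases i <;> fin_cases j <;> simp [up]), mul_one] at this
    rw [this, Pi.smul_apply, smul_eq_mul, top]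
    by_cases hb : b = 0
    · subst hb; simp
    · rw [if_neg hb, Pi.single_eq_of_ne hb, mul_zero]
  refine ⟨hup, htor, ?_⟩
  have hfixed : ∀ s, modelRep ι d (up s) (hecke (modelRep ι d) (top d)) =
      hecke (modelRep ι d) (top d) := fun s => by
    rw [hecke, map_sum]
    exact Fintype.sum_equiv (Equiv.addLeft s) _ _ fun t => by
      rw [← Module.End.mul_apply, ← map_mul, ← up_add]; rfl
  rw [model_line hF ι d _ hfixed]
  congr 1
  have hc : hecke (modelRep ι d) (top d) 0 = ∑ t : F, ι (-t) ^ num fun i => (d i : ℕ) := by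
    rw [hecke, Finset.sum_apply]
    refine Finset.sum_congr rfl fun t _ => ?_
    rw [← Module.End.mul_apply, ← map_mul, modelRep_top, model_apply, ← num_eq_pow]
    refine Finset.prod_congr rfl fun i _ => ?_
    rw [Pi.zero_apply, symMat_corner, Matrix.SpecialLinearGroup.coe_mul]
    simp [up, wel, iterateFrobenius_def, Matrix.mul_apply, Fin.sum_univ_two]
  rw [hc]
  set N := num fun i => (d i : ℕ) with hN
  by_cases he : 2 ∣ N
  swap
  · rw [if_neg (fun h => he h.1), if_neg he]
  have hev : ∀ t : F, ι (-t) ^ N = ι t ^ N := fun t => by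
    rw [map_neg, Even.neg_pow (even_iff_two_dvd.2 he)]
  rw [Finset.sum_congr rfl fun t _ => hev t]
  have hlt : N < 3 ^ k := num_lt fun i => (d i).2
  by_cases hN0 : N = 0
  · rw [if_neg (fun h => by
      have : 3 ≤ 3 ^ k := Nat.le_self_pow hk.ne' 3
      omega), if_pos he]
    simp [hN0, card_cast hF hk]
  rw [← Finset.sum_erase (f := fun t : F => ι t ^ N) (s := Finset.univ) (a := 0) (by simp [hN0])]
  have e : ∑ t ∈ Finset.univ.erase (0 : F), ι t ^ N = ∑ t : Fˣ, ι (t : F) ^ N :=
    Finset.sum_bij' (fun t ht => Units.mk0 t (Finset.ne_of_mem_erase ht)) (fun t _ => (t : F))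
      (fun _ _ => Finset.mem_univ _) (fun t _ => Finset.mem_erase.2 ⟨t.ne_zero, Finset.mem_univ _⟩)
      (fun _ _ => rfl) (fun _ _ => Units.ext rfl) fun _ _ => rfl
  rw [e, sum_units_pow, hF, if_pos he]
  by_cases hq : N = 3 ^ k - 1
  · rw [if_pos (hq ▸ dvd_rfl), if_pos ⟨he, hq⟩]
  · rw [if_neg fun hd => by
      have := Nat.le_of_dvd (Nat.pos_of_ne_zero hN0) hd
      omega, if_neg (fun h => hq h.2)]

/-- Weights of an index, counted. -/
noncomputable def cnt (d : Fin k → Fin 3) (x c : K) : ℕ :=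
  Nat.card {a : Idx d // x ^ wt d a = c}

theorem simple_dims (hF : Fintype.card F = 3 ^ k) (hk : 0 < k) (ι : F →+* K) {V : Type v}
    [AddCommGroup V] [Module K V] [FiniteDimensional K V] [Nontrivial V]
    (ρ : SL(2, F) →* Module.End K V) (hneg : ρ (-1) = 1) (hs : Simple ρ) :
    ∃ d : Fin k → Fin 3, 2 ∣ num (fun i => (d i : ℕ)) ∧ ∀ (a : Fˣ) (c : K),
      finrank K (LinearMap.ker (ρ (dg a) - c • (1 : Module.End K V))) = cnt d (ι (a : F)) c := by
  classical
  obtain ⟨x, D, μ, hx0, hx, hD, he, hμ⟩ := exists_marked hF hk ι ρ hneg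
  have htwo : 2 ∣ 3 ^ k - 1 := by
    have : Odd (3 ^ k) := Odd.pow (by decide)
    obtain ⟨m, hm⟩ := this
    omega
  obtain ⟨E, hE, hEm⟩ : ∃ E, E < 3 ^ k ∧ (2 ∣ E) ∧ (∀ a : Fˣ, ι (a : F) ^ E = ι (a : F) ^ D) ∧
      μ = if 2 ∣ E ∧ E = 3 ^ k - 1 then -1 else 0 := by
    rcases hμ with h | ⟨h, h0⟩
    · exact ⟨D, by omega, he, fun _ => rfl, by rw [h, if_neg (fun e => by omega)]⟩
    · refine ⟨3 ^ k - 1, by omega, htwo, fun a => ?_, by rw [h, if_pos ⟨htwo, rfl⟩]⟩
      rw [h0, pow_zero, ← map_pow, ← hF, FiniteField.pow_card_sub_one_eq_one _ a.ne_zero, map_one]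
  obtain ⟨hEe, hEp, hEμ⟩ := hEm
  obtain ⟨d, hd⟩ : ∃ d : Fin k → Fin 3, num (fun i => (d i : ℕ)) = E :=
    ⟨finFunctionFinEquiv.symm ⟨E, hE⟩, by
      have := congrArg Fin.val (finFunctionFinEquiv.apply_symm_apply (⟨E, hE⟩ : Fin (3 ^ k)))
      rwa [finFunctionFinEquiv_apply] at this⟩
  have hm := model_marked hF hk ι d
  rw [hd, if_pos hEe] at hm
  have hm' : Marked ι (modelRep ι d) (top d) D μ :=
    ⟨hm.up_fix, fun a => by rw [hm.torus, hEp], by rw [hm.hecke_eq, hEμ]⟩
  have htne : (top d : Idx d → K) ≠ 0 := fun e => by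
    have := congrFun e 0
    simp [top] at this
  obtain ⟨L, hL⟩ := exists_equiv hF hs (model_simple hF ι d) hx hx0 hm' htne
  refine ⟨d, hd ▸ hEe, fun a c => ?_⟩
  have hb : ∀ i : Idx d, ρ (dg a) (L.symm (Pi.single i 1)) =
      (ι (a : F) ^ wt d i) • L.symm (Pi.single i 1) := by
    intro i
    apply L.injective
    rw [hL, map_smul, L.apply_symm_apply]
    funext b
    rw [modelRep_apply, Pi.smul_apply, smul_eq_mul,
      show ((dg a : SL(2, F)).1.map ι) = !![ι (a : F), 0; 0, (ι (a : F))⁻¹] by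
        ext r s; fin_cases r <;> fin_cases s <;> simp [dg],
      Finset.sum_eq_single i (fun y _ hy => by simp [Pi.single_eq_of_ne hy]) (by simp),
      model_diag d _ (by simp)]
    by_cases hbi : b = i
    · subst hbi; simp
    · simp [hbi, Pi.single_eq_of_ne hbi]
  rw [finrank_ker_diag (fun i => L.symm (Pi.single i 1))
    ((Pi.linearIndependent_single_one (Idx d) K).map' _ L.symm.ker)
    (by
      rw [Set.range_comp', ← LinearEquiv.coe_coe, ← Submodule.map_span]
      simp [← Pi.basisFun_apply, Basis.span_eq])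
    _ _ hb, cnt, Nat.card_eq_fintype_card, Fintype.card_subtype]

/-- Eigenspace dimensions of the split torus in any representation with trivial centre. -/
theorem exists_dims (hF : Fintype.card F = 3 ^ k) (hk : 0 < k) (ι : F →+* K) (V : Type v)
    [AddCommGroup V] [Module K V] [FiniteDimensional K V]
    (ρ : SL(2, F) →* Module.End K V) : ρ (-1) = 1 →
    ∃ l : List (Fin k → Fin 3), (∀ d ∈ l, 2 ∣ num (fun i => (d i : ℕ))) ∧ ∀ (a : Fˣ) (c : K),
      c ≠ 0 → finrank K (LinearMap.ker (ρ (dg a) - c • (1 : Module.End K V))) =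
        (l.map fun d => cnt d (ι (a : F)) c).sum := by
  refine rep_induction (M := SL(2, F)) (fun (V : Type v) [AddCommGroup V] [Module K V]
    [FiniteDimensional K V] (ρ : SL(2, F) →* Module.End K V) => ρ (-1) = 1 →
    ∃ l : List (Fin k → Fin 3), (∀ d ∈ l, 2 ∣ num (fun i => (d i : ℕ))) ∧ ∀ (a : Fˣ) (c : K),
      c ≠ 0 → finrank K (LinearMap.ker (ρ (dg a) - c • (1 : Module.End K V))) =
        (l.map fun d => cnt d (ι (a : F)) c).sum) ?_ ?_ ?_ V ρ
  · intro V _ _ _ _ ρ _
    exact ⟨[], by simp, fun a c _ => by simp [Module.finrank_zero_of_subsingleton]⟩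
  · intro V _ _ _ _ ρ hs hneg
    obtain ⟨d, hd, h⟩ := simple_dims hF hk ι ρ hneg hs
    exact ⟨[d], by simpa using hd, fun a c _ => by simpa using h a c⟩
  · intro V _ _ _ ρ W hW h1 h2 hneg
    obtain ⟨l1, g1, e1⟩ := h1 (LinearMap.ext fun z => Subtype.ext (by
      rw [subRep_apply, hneg]; rfl))
    obtain ⟨l2, g2, e2⟩ := h2 (Submodule.linearMap_qext _ (LinearMap.ext fun z => by
      show quotRep ρ W hW (-1) (W.mkQ z) = W.mkQ z
      rw [← quotRep_mkQ, hneg]; rfl))
    refine ⟨l1 ++ l2, fun d hd => (List.mem_append.1 hd).elim (g1 d) (g2 d), fun a c hc => ?_⟩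
    rw [List.map_append, List.sum_append, ← e1 a c hc, ← e2 a c hc]
    obtain ⟨N, hN⟩ : ∃ N, N = 3 ^ k - 1 := ⟨_, rfl⟩
    have hN0 : ((N : ℕ) : K) ≠ 0 := by
      rw [hN, Nat.cast_sub (Nat.one_le_pow _ _ (by norm_num)), Nat.cast_pow,
        show ((3 : ℕ) : K) = 0 from CharP.cast_eq_zero K 3, zero_pow hk.ne', Nat.cast_one, zero_sub]
      exact neg_ne_zero.2 one_ne_zero
    have hA : ρ (dg a) ^ N = 1 := by
      rw [← map_pow, show (dg a : SL(2, F)) = dgHom a from rfl, ← map_pow,
        show a ^ N = 1 by rw [hN, ← hF, ← Fintype.card_units, pow_card_eq_one], map_one, map_one]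
    by_cases hcN : c ^ N = 1
    · exact finrank_ker_additive (ρ (dg a)) hN0 hA W (hW (dg a)) c hcN
    · have key : ∀ (U : Type v) [AddCommGroup U] [Module K U] (B : Module.End K U), B ^ N = 1 →
          finrank K (LinearMap.ker (B - c • (1 : Module.End K U))) = 0 := by
        intro U _ _ B hB
        have : LinearMap.ker (B - c • (1 : Module.End K U)) = ⊥ := by
          refine (Submodule.eq_bot_iff _).2 fun z hz => ?_
          have hz' : B z = c • z := by
            simpa [sub_eq_zero] using hz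
          have hp : ∀ n : ℕ, (B ^ n) z = c ^ n • z := by
            intro n
            induction n with
            | zero => simp
            | succ n ih => rw [pow_succ, Module.End.mul_apply, hz', map_smul, ih, smul_smul, pow_succ']
          have := hp N
          rw [hB, Module.End.one_apply] at this
          by_contra hne
          exact hcN (sub_eq_zero.1 ((smul_eq_zero.1 (show (c ^ N - 1) • z = 0 by
            rw [sub_smul, one_smul, ← this, sub_self])).resolve_right hne))
        rw [this, finrank_bot]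
      rw [key V _ hA, key W _ ?_, key (V ⧸ W) _ ?_]
      · rw [← map_pow, show (dg a : SL(2, F)) = dgHom a from rfl, ← map_pow,
          show a ^ N = 1 by rw [hN, ← hF, ← Fintype.card_units, pow_card_eq_one], map_one, map_one]
      · rw [← map_pow, show (dg a : SL(2, F)) = dgHom a from rfl, ← map_pow,
          show a ^ N = 1 by rw [hN, ← hF, ← Fintype.card_units, pow_card_eq_one], map_one, map_one]

end Cfsg.Agent.Classical.SLTwoThree
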